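import Cfsg.Agent.Lib.CosetEnum.Order

/-!
# Maximality of a point stabiliser from orbits of some of its elements
-/

set_option autoImplicit false

namespace Cfsg.Agent.CosetEnum.InvPres.Rep

variable {α : Type} [DecidableEq α] {P : InvPres α} {T : Tbl} (R : P.Rep T) (hnd : P.gens.Nodup)

/-- A variant of `stab_maximal` for a subgroup of the stabiliser. -/
theorem stab_maximal_le (hT : checkDescend T = true) {ws : List (List ℕ)}
    (hws : ws.all (fun W => W.all fun l => Nat.blt l T.nl) = true)
    (hst : Subgroup.closure {g | ∃ W ∈ ws, evalWord P.val W = g} ≤ R.stab hnd)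
    (O : OrbitData) (roots : List ℕ) (hroots : roots.head? = some 0)
    (hlab : allRange (fun i => Nat.blt (O.getLab i) roots.length) 0 T.n = true)
    (hroot : allRange (fun c => Nat.blt (roots.getD c 0) T.n &&
      Nat.beq (O.getLab (roots.getD c 0)) c) 0 roots.length = true)
    (hchk : ∀ i < T.n, allRange (fun c => O.checkPoint T ws c (roots.getD c 0) i) 0 roots.length = true)
    (hdiv : ∀ A : Finset ℕ, A ⊆ Finset.range roots.length → 0 ∈ A →
      (∑ c ∈ A, countBelow (fun i => Nat.beq (O.getLab i) c) T.n) ∣ T.n →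
      A = {0} ∨ A = Finset.range roots.length)
    (h1 : countBelow (fun i => Nat.beq (O.getLab i) 0) T.n = 1) {K : Subgroup P.Gp}
    (hK : R.stab hnd ≤ K) : K = R.stab hnd ∨ K = ⊤ := by
  let Sset : Set (Fin T.n) := {i | ∃ k ∈ K, R.hom hnd k R.base = i}
  have hmem : ∀ g, R.hom hnd g R.base ∈ Sset ↔ g ∈ K := by
    intro g
    refine ⟨?_, fun hg => ⟨g, hg, rfl⟩⟩
    rintro ⟨k, hk, hkg⟩
    have : k⁻¹ * g ∈ R.stab hnd := by
      rw [R.mem_stab, map_mul, map_inv, Equiv.Perm.mul_apply, Equiv.Perm.inv_eq_iff_eq]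
      exact hkg.symm
    simpa using mul_mem hk (hK this)
  have hconst : ∀ i j : Fin T.n, O.getLab i = O.getLab j → i ∈ Sset → j ∈ Sset := by
    intro i j hij hi
    have hc : O.getLab i < roots.length :=
      Nat.le_of_ble_eq_true (allRange_spec hlab i (Nat.zero_le _) (by omega))
    have hr := allRange_spec hroot _ (Nat.zero_le _) (by omega : O.getLab i < 0 + roots.length)
    rw [Bool.and_eq_true] at hr
    obtain ⟨q, -, himg, -⟩ := R.exists_orbit hnd hT ws hws (K := Subgroup.closure {g | ∃ W ∈ ws, evalWord P.val W = g}) rfl O (O.getLab i)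
      (roots.getD (O.getLab i) 0) (Nat.le_of_ble_eq_true hr.1) hr.2
      (fun p hp => allRange_spec (hchk p hp) _ (Nat.zero_le _) (by omega))
    have hi' : i ∈ R.point hnd '' MulAction.orbit (Subgroup.closure {g | ∃ W ∈ ws, evalWord P.val W = g}) q := by
      rw [himg]; exact Nat.beq_refl _
    have hj' : j ∈ R.point hnd '' MulAction.orbit (Subgroup.closure {g | ∃ W ∈ ws, evalWord P.val W = g}) q := by
      rw [himg]
      show Nat.beq (O.getLab j) (O.getLab i) = true
      rw [hij]; exact Nat.beq_refl _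
    obtain ⟨p, ⟨a, ha⟩, rfl⟩ := hi'
    obtain ⟨p', ⟨b, hb⟩, rfl⟩ := hj'
    obtain ⟨k, hk, hki⟩ := hi
    refine ⟨(b : P.Gp) * (a : P.Gp)⁻¹ * k, mul_mem (mul_mem (hK (hst b.2)) (inv_mem (hK (hst a.2)))) hk, ?_⟩
    subst ha hb
    show _ = R.point hnd ((b : P.Gp) • q)
    have hki' : R.hom hnd k R.base = R.hom hnd (a : P.Gp) (R.point hnd q) := by
      rw [hki]; exact R.point_smul hnd _ _
    rw [R.point_smul, map_mul, map_mul, Equiv.Perm.mul_apply, Equiv.Perm.mul_apply, hki', map_inv,
      ]
    simp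
  classical
  let A : Finset ℕ := (Finset.range roots.length).filter fun c => ∃ i ∈ Sset, O.getLab i = c
  have hSA : ∀ i : Fin T.n, i ∈ Sset ↔ O.getLab i ∈ A := by
    intro i
    simp only [A, Finset.mem_filter, Finset.mem_range]
    refine ⟨fun h => ⟨Nat.le_of_ble_eq_true (allRange_spec hlab i (Nat.zero_le _) (by omega)),
      i, h, rfl⟩, ?_⟩
    rintro ⟨-, j, hj, hji⟩
    exact hconst j i hji hj
  have hroot0 : roots.getD 0 0 = 0 := by
    cases roots with
    | nil => rfl
    | cons a as => simp only [List.head?_cons, Option.some.injEq] at hroots; subst hroots; rfl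
  have hlen : 0 < roots.length := by
    cases roots with
    | nil => simp at hroots
    | cons a as => simp
  have hlab0 : O.getLab (R.base : Fin T.n) = 0 := by
    have := allRange_spec hroot 0 le_rfl (by omega)
    rw [Bool.and_eq_true, hroot0] at this
    exact Nat.eq_of_beq_eq_true this.2
  have h0A : 0 ∈ A := by
    rw [← hlab0, ← hSA]
    exact ⟨1, one_mem K, by rw [map_one]; rfl⟩
  have hcard : Sset.ncard = ∑ c ∈ A, countBelow (fun i => Nat.beq (O.getLab i) c) T.n := by
    have hS : Sset = ↑(Finset.univ.filter fun i : Fin T.n => O.getLab i ∈ A) := by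
      ext i; simp [hSA]
    rw [hS, Set.ncard_coe_finset,
      Finset.card_eq_sum_card_fiberwise
        (s := Finset.univ.filter fun i : Fin T.n => O.getLab i ∈ A)
        (f := fun i : Fin T.n => O.getLab i) (t := A)
        (fun i hi => (Finset.mem_filter.mp (Finset.mem_coe.mp hi)).2)]
    refine Finset.sum_congr rfl fun c hc => ?_
    rw [← ncard_fin_filter T.n (fun i => Nat.beq (O.getLab i) c), ← Set.ncard_coe_finset]
    congr 1
    ext i
    simp only [Finset.coe_filter, Finset.mem_filter, Finset.mem_univ, true_and]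
    exact ⟨fun h => h.2 ▸ Nat.beq_refl c,
      fun h => ⟨(Nat.eq_of_beq_eq_true h).symm ▸ hc, Nat.eq_of_beq_eq_true h⟩⟩
  have hdvd : Sset.ncard ∣ T.n := by
    letI : MulAction P.Gp (Fin T.n) := MulAction.compHom _ (R.hom hnd)
    have horb : Sset = MulAction.orbit K R.base := by
      ext i
      exact ⟨fun ⟨k, hk, h⟩ => ⟨⟨k, hk⟩, h⟩, fun ⟨k, h⟩ => ⟨k, k.2, h⟩⟩
    have hst' : MulAction.stabilizer K R.base = (R.stab hnd).subgroupOf K := rfl
    rw [horb, ← MulAction.index_stabilizer, hst', ← R.index_stab hnd hT,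
      ← Subgroup.relIndex_mul_index hK]
    exact dvd_mul_right _ _
  rw [hcard] at hdvd
  rcases hdiv A (Finset.filter_subset _ _) h0A hdvd with hA | hA
  · left
    refine le_antisymm (fun g hg => ?_) hK
    have hg' : R.hom hnd g R.base ∈ Sset := (hmem g).mpr hg
    rw [hSA, hA, Finset.mem_singleton] at hg'
    rw [R.mem_stab]
    have hone : {i : Fin T.n | Nat.beq (O.getLab i) 0 = true}.ncard ≤ 1 := by
      rw [ncard_fin_filter T.n (fun i => Nat.beq (O.getLab i) 0), h1]
    refine (Set.ncard_le_one (Set.toFinite _)).mp hone _ ?_ _ ?_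
    · show Nat.beq _ 0 = true; rw [hg']; rfl
    · show Nat.beq _ 0 = true; rw [hlab0]; rfl
  · right
    rw [eq_top_iff]
    intro g _
    rw [← hmem, hSA, hA, Finset.mem_range]
    exact Nat.le_of_ble_eq_true (allRange_spec hlab _ (Nat.zero_le _) (by omega))

end Cfsg.Agent.CosetEnum.InvPres.Rep
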