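import Cfsg.Agent.Lib.Steiner.J2.Data
import Cfsg.Agent.Lib.Steiner.J2.Maximal
import Cfsg.Agent.Lib.CosetEnum.Cox
import Cfsg.Agent.Lib.CosetEnum.Chain
import Cfsg.Agent.SporB.Suz.J2.Cert
import Cfsg.Agent.SporB.Suz.B.Cert
import Cfsg.Agent.SporB.Suz.Cd.Cert

/-!
# A simple group of order 604800 on 100 points
-/

set_option autoImplicit false
set_option maxRecDepth 100000

namespace Cfsg.Agent.Steiner.J2

open Cfsg.Agent.CosetEnum

/-- Five involutions. -/
inductive Gen
  | a
  | b
  | c
  | d
  | e
  deriving DecidableEq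

/-- The generators in order. -/
def genList : List Gen := [.a, .b, .c, .d, .e]

/-- The two further relators. -/
def extra : List (FreeGroup Gen) :=
  [FreeGroup.of Gen.a * ((FreeGroup.of Gen.c * FreeGroup.of Gen.d) ^ 4)⁻¹,
   ((FreeGroup.of Gen.b * FreeGroup.of Gen.c * FreeGroup.of Gen.d * FreeGroup.of Gen.c *
      FreeGroup.of Gen.d) ^ 5 * FreeGroup.of Gen.e) ^ 3]

/-- The further relators as words. -/
def extraWords : List (List ℕ) :=
  [[0, 3, 2, 3, 2, 3, 2, 3, 2], repWord (repWord [1, 2, 3, 2, 3] 5 ++ [4]) 3]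

theorem words_iff (A : Type) [Group A] (v : Gen → A) (hv : ∀ x, v x * v x = 1) :
    (∀ r ∈ extra, FreeGroup.lift v r = 1) ↔
      ∀ W ∈ extraWords, evalWord (letterVal genList v) W = 1 := by
  have hi : ∀ x, (v x)⁻¹ = v x := fun x => inv_eq_of_mul_eq_one_right (hv x)
  have h0 : letterVal genList v 0 = v .a := rfl
  have h1 : letterVal genList v 1 = v .b := rfl
  have h2 : letterVal genList v 2 = v .c := rfl
  have h3 : letterVal genList v 3 = v .d := rfl
  have h4 : letterVal genList v 4 = v .e := rfl
  simp [extra, extraWords, evalWord, evalWord_repWord, evalWord_append, h0, h1, h2, h3,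
    h4, ← inv_pow, mul_inv_rev, hi, pow_succ, mul_assoc]

/-- The presented group. -/
def pres : InvPres Gen where
  edges := [(.a, 5, .b), (.b, 3, .c), (.c, 8, .d), (.d, 3, .e)]
  extra := extra
  gens := genList
  words := extraWords
  all_gens x := by cases x <;> decide
  all_nodes x := by cases x <;> decide
  words_iff := words_iff

theorem nodup : pres.gens.Nodup := by decide

theorem card_le : Nat.card pres.Gp ≠ 0 ∧ Nat.card pres.Gp ≤ 604800 := by
  have hG := pres.relIndex_le Suz.J2.cert (sel := Suz.J2.sel) rfl Suz.J2.inv_ok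
    (rels := Suz.J2.rels) (by decide +kernel) Suz.J2.rules_ok
    (pres.subs_mem Suz.J2.sel Suz.B.sel (by decide +kernel))
  have hB := pres.relIndex_le Suz.B.cert (sel := Suz.B.sel) rfl Suz.B.inv_ok
    (rels := Suz.B.rels) (by decide +kernel) Suz.B.rules_ok
    (pres.subs_mem Suz.B.sel Suz.Cd.sel (by decide +kernel))
  have hC := pres.relIndex_le Suz.Cd.cert (sel := Suz.Cd.sel) rfl Suz.Cd.inv_ok
    (rels := Suz.Cd.rels) (by decide +kernel) Suz.Cd.rules_ok
    (K := ⊥) (fun W hW => absurd hW (List.not_mem_nil (a := W)))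
  have h1 : pres.sub Suz.Cd.sel ≤ pres.sub Suz.B.sel := pres.sub_mono (by decide)
  have h2 : pres.sub Suz.B.sel ≤ pres.sub Suz.J2.sel := pres.sub_mono (by decide)
  have htop : pres.sub Suz.J2.sel = ⊤ := pres.sub_all _ rfl
  have hcard : Nat.card pres.Gp = (⊥ : Subgroup pres.Gp).relIndex (pres.sub Suz.Cd.sel) *
      (pres.sub Suz.Cd.sel).relIndex (pres.sub Suz.B.sel) *
      (pres.sub Suz.B.sel).relIndex (pres.sub Suz.J2.sel) := by
    rw [Subgroup.relIndex_mul_relIndex _ _ _ bot_le h1,
      Subgroup.relIndex_mul_relIndex _ _ _ bot_le h2,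
      Subgroup.relIndex_bot_left, htop, Subgroup.card_top]
  rw [hcard]
  refine ⟨by simp only [Nat.mul_ne_zero_iff]; exact ⟨⟨hC.1, hB.1⟩, hG.1⟩, ?_⟩
  calc _ ≤ 16 * 135 * 280 := Nat.mul_le_mul (Nat.mul_le_mul hC.2 hB.2) hG.2
    _ = _ := by norm_num

theorem point_ok : allRange (fun i => tbl.checkPoint pres.relWords i) 0 100 = true := by
  decide +kernel

theorem slp_ok : allRange (fun i => slp.checkPoint tbl i) 0 100 = true := by decide +kernel

/-- The table is a representation. -/
theorem rep : pres.Rep tbl where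
  ok := ⟨by decide, fun i hi => allRange_spec point_ok i (Nat.zero_le _) (by simpa [tbl] using hi)⟩
  nl := rfl
  invs := by decide +kernel

theorem slp_all : ∀ i < tbl.n, slp.checkPoint tbl i = true := fun i hi =>
  allRange_spec slp_ok i (Nat.zero_le _) (by simpa [tbl] using hi)

theorem finite : Finite pres.Gp := Nat.finite_of_card_ne_zero card_le.1

theorem card_eq : Nat.card pres.Gp = 604800 ∧ Function.Injective (rep.hom nodup) :=
  haveI := finite
  rep.card_eq nodup slp_all (Ls := levels) (by decide +kernel) (by decide +kernel) card_le.2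

theorem descend : InvPres.Rep.checkDescend tbl = true := by decide +kernel

theorem stab_card : Nat.card (rep.stab nodup) = 6048 := by
  have h := Subgroup.card_mul_index (rep.stab nodup)
  rw [rep.index_stab nodup descend, card_eq.1] at h
  exact Nat.eq_of_mul_eq_mul_right (by decide : 0 < 100) (h.trans (by norm_num))

theorem ws_fix : ws.all (fun W => Nat.beq (tbl.run W 0) 0) = true := by decide +kernel

theorem closure_le : Subgroup.closure {g | ∃ W ∈ ws, evalWord pres.val W = g} ≤ rep.stab nodup := by
  rw [Subgroup.closure_le]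
  rintro _ ⟨W, hW, rfl⟩
  have hlt : ∀ l ∈ W, l < tbl.nl := fun l hl => by
    have h : ws.all (fun W => W.all fun l => decide (l < tbl.nl)) = true := by decide +kernel
    simp only [List.all_eq_true, decide_eq_true_eq] at h
    exact h W hW l hl
  have h0 := List.all_eq_true.mp ws_fix W hW
  have h := rep.hom_inv_apply nodup hlt rep.base
  rw [SetLike.mem_coe, rep.mem_stab]
  have hfix : (rep.hom nodup (evalWord pres.val W))⁻¹ rep.base = rep.base :=
    Fin.ext (h.trans (Nat.eq_of_beq_eq_true h0))
  exact (Equiv.Perm.inv_eq_iff_eq.mp hfix).symm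

theorem orbit_ok : allRange (fun i => allRange (fun c => orb.checkPoint tbl ws c (roots.getD c 0) i)
    0 3) 0 100 = true := by decide +kernel

theorem div_ok : ∀ A : Finset ℕ, A ⊆ Finset.range roots.length → 0 ∈ A →
    (∑ c ∈ A, countBelow (fun i => Nat.beq (orb.getLab i) c) tbl.n) ∣ tbl.n →
    A = {0} ∨ A = Finset.range roots.length := by
  intro A hA
  have hA' : A ∈ (Finset.range 3).powerset := Finset.mem_powerset.mpr hA
  have e : ∀ c ∈ A, countBelow (fun i => Nat.beq (orb.getLab i) c) tbl.n =
      [1, 63, 36].getD c 0 := by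
    intro c hc
    have : c < 3 := Finset.mem_range.mp (hA hc)
    interval_cases c <;> decide +kernel
  rw [Finset.sum_congr rfl e]
  revert A
  decide +kernel

theorem maximal (K : Subgroup pres.Gp) (hK : rep.stab nodup ≤ K) :
    K = rep.stab nodup ∨ K = ⊤ :=
  rep.stab_maximal_le nodup descend (by decide +kernel) closure_le orb roots (by decide)
    (by decide +kernel) (by decide +kernel)
    (fun i hi => allRange_spec orbit_ok i (Nat.zero_le _) (by simpa [tbl] using hi))
    div_ok (by decide +kernel) hK

theorem simple : IsSimpleGroup pres.Gp :=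
  haveI := finite
  rep.isSimple nodup descend (by decide) card_eq.2 maximal slp_all 5 6048 stab_card
    (by decide +kernel) ys steps (by decide +kernel) (by decide +kernel) (by decide +kernel)

/-- A simple group of order 604800 on 100 points. -/
theorem exists_subgroup : ∃ G : Subgroup (Equiv.Perm (Fin 100)),
    IsSimpleGroup G ∧ Nat.card G = 604800 := by
  let e := MonoidHom.ofInjective card_eq.2
  exact ⟨(rep.hom nodup).range, e.isSimpleGroup_congr.mp simple,
    (Nat.card_congr e.toEquiv).symm.trans card_eq.1⟩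

end Cfsg.Agent.Steiner.J2
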